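import Cfsg.Agent.Lib.KnownB.GraphFix.Iso
import Cfsg.Agent.Lib.Chevalley.Data.D4
import Cfsg.Agent.Lib.Chevalley.Data.G2

/-! The folding of the diagram of type D4 onto that of type G2. -/

set_option autoImplicit false
set_option maxRecDepth 20000

namespace CfsgLib.KnownB.GraphFix.D4

open CfsgLib.Chevalley

/-- The coordinate map of the folding, by codes (coroots first, then roots). -/
def rows : List (ℕ × ℤ) :=
  [(0, 1), (1, 1), (0, 1), (0, 1), (2, -1), (3, -1), (4, -1), (4, -1), (5, 1), (6, 1), (4, 1), (5, -1), (5, -1), (7, 1), (6, 1), (6, 1), (9, 1), (9, 1), (8, 1), (10, -1), (10, -1), (11, 1), (9, 1), (10, 1), (11, -1), (11, -1), (12, -1), (13, -1)]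

/-- A coordinate of the folded table. -/
def mkI (c : ℕ) : Data.G2.tbl.I :=
  if h : c < 2 then Sum.inl ⟨c, h⟩ else Sum.inr ⟨(c - 2) % 12, Nat.mod_lt _ (show 0 < 12 by decide)⟩

/-- The code of a coordinate. -/
def code : Data.D4.tbl.I → ℕ
  | Sum.inl i => i.val
  | Sum.inr s => 4 + s.val

/-- The coordinate map of the folding. -/
def emb (x : Data.D4.tbl.I) : Data.G2.tbl.I × ℤ :=
  (mkI (rows.getD (code x) (0, 0)).1, (rows.getD (code x) (0, 0)).2)

/-- The fundamental root of each orbit. -/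
def tgt : List ℕ := [1, 0]

theorem chk_fold : chkFold Data.D4.tbl Data.G2.tbl emb 2 [[1], [0, 2, 3]] tgt = true := by decide +kernel

end CfsgLib.KnownB.GraphFix.D4
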