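import Cfsg.Agent.Lib.KnownB.GraphFix.DataD4
import Cfsg.Agent.Lib.KnownB.GraphFix.Gens
import Cfsg.Agent.Lib.Chevalley.Twist.InstD4

/-!
The fixed points of the triality graph automorphism.
-/

set_option autoImplicit false
set_option maxRecDepth 20000

namespace CfsgLib.KnownB.GraphFix.D4

open CfsgLib.Chevalley CfsgLib.Chevalley.Tbl

variable (F : Type*) [Field F]

/-- The setup with trivial field part. -/
noncomputable def setup : AbSetup Data.D4.tbl F where
  D := Twist.D4.data (RingEquiv.refl F)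
  o := 2
  orb := [1, 0, 1, 1]
  words := Data.D4.orbWords
  Ss := [[1], [0, 2, 3]]
  hO := Twist.D4.chk_orbits
  hA := Twist.D4.chk_ab
  W := {w | ∃ j < 2, ∃ t, (⇑(RingEquiv.refl F))^[([[1], [0, 2, 3]].getD j []).length] t = t ∧
    (w = cycWord (RingEquiv.refl F) (Data.D4.tbl.simples ([[1], [0, 2, 3]].getD j [])) t ∨
      w = cycWord (RingEquiv.refl F) ((Data.D4.tbl.simples ([[1], [0, 2, 3]].getD j [])).map Data.D4.tbl.neg) t)}
  hW _ hw := hw
  hpos j hj t ht := ⟨j, hj, t, ht, Or.inl rfl⟩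
  hneg j hj t ht := ⟨j, hj, t, ht, Or.inr rfl⟩

theorem tau_val (f : Fin Data.D4.tbl.rank → Fˣ) (i : Fin Data.D4.tbl.rank) :
    (setup F).D.tau f ((setup F).D.permS i) = f i := by
  have h1 : Data.D4.graph.lam (Data.D4.tbl.simple i.val) = 1 := by
    revert i; decide +kernel
  apply Units.ext
  rw [TwistData.tau_apply]
  show (RingEquiv.refl F) _ ^ Data.D4.graph.lam _ = _
  rw [h1, pow_one]
  rfl

theorem tau_eqs (f : Fin Data.D4.tbl.rank → Fˣ) :
    (setup F).D.tau f (2 : Fin 4) = f (0 : Fin 4) ∧ (setup F).D.tau f (1 : Fin 4) = f (1 : Fin 4) ∧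
      (setup F).D.tau f (3 : Fin 4) = f (2 : Fin 4) ∧ (setup F).D.tau f (0 : Fin 4) = f (3 : Fin 4) :=
  ⟨tau_val F f (0 : Fin 4), tau_val F f (1 : Fin 4), tau_val F f (2 : Fin 4), tau_val F f (3 : Fin 4)⟩

theorem G_eq : (setup F).G = (setup F).S.fix := by
  refine (setup F).G_eq_fix (le_of_eq ?_) fun f hf => ?_
  · refine (setup F).D.diag_fix_eq_map (m := 2) (k := 3) Data.D4.chkSmith (by decide) (by norm_num) ?_
    intro f hf
    set τ := (setup F).D.tau
    have hc : τ (τ (τ f)) = f := by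
      obtain ⟨a2, a1, a3, a0⟩ := tau_eqs F f
      obtain ⟨b2, b1, b3, b0⟩ := tau_eqs F (τ f)
      obtain ⟨c2, c1, c3, c0⟩ := tau_eqs F (τ (τ f))
      exact funext fun (i : Fin 4) => match i with
        | 0 => c0.trans (b3.trans a2)
        | 1 => c1.trans (b1.trans a1)
        | 2 => c2.trans (b0.trans a3)
        | 3 => c3.trans (b2.trans a0)
    refine ⟨f * τ f * τ (τ f), ?_, ?_⟩
    · show τ (f * τ f * τ (τ f)) = _
      rw [map_mul, map_mul, hc, MonoidHom.id_apply, mul_comm, mul_assoc f]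
    · have e : ∀ g, torusHom Data.D4.tbl F (τ g) = (setup F).D.twist.sg (torusHom Data.D4.tbl F g) :=
        fun g => ((setup F).D.sg_torus g).symm
      rw [map_mul, map_mul, e (τ f), hf, ← e f, hf, pow_succ, pow_two]
  · obtain ⟨e2, -, e3, e0⟩ := tau_eqs F f
    have h' : (setup F).D.tau f = f := hf
    rw [h'] at e0 e2 e3
    have hdec : f = (setup F).orbTorus 0 (f (1 : Fin 4)) * (setup F).orbTorus 1 (f (0 : Fin 4)) := by
      have key : ∀ i : Fin 4, f i = (Pi.mulSingle (1 : Fin 4) (f (1 : Fin 4)) *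
        (Pi.mulSingle (0 : Fin 4) (f (0 : Fin 4)) * (Pi.mulSingle (2 : Fin 4) (f (0 : Fin 4)) *
          Pi.mulSingle (3 : Fin 4) (f (0 : Fin 4)))) : Fin 4 → Fˣ) i := by
        intro i
        fin_cases i <;> simp
        · exact e2
        · exact e3.trans e2
      have o0 : (setup F).orbTorus 0 (f (1 : Fin 4)) = Pi.mulSingle (1 : Fin 4) (f (1 : Fin 4)) :=
        List.prod_singleton
      have o1 : ∀ c, (setup F).orbTorus 1 c = Pi.mulSingle (0 : Fin 4) c *
          (Pi.mulSingle (2 : Fin 4) c * Pi.mulSingle (3 : Fin 4) c) := fun c => by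
        show ([_, _, _] : List (Fin Data.D4.tbl.rank → Fˣ)).prod = _
        simp only [List.prod_cons, List.prod_nil, mul_one]
        rfl
      rw [o0, o1]
      exact funext key
    rw [hdec]
    exact mul_mem (Subgroup.subset_closure ⟨0, by norm_num [setup], _, Function.iterate_fixed rfl _, rfl⟩)
      (Subgroup.subset_closure ⟨1, by norm_num [setup], _, Function.iterate_fixed rfl _, rfl⟩)

/-- The fixed points are the group of type G₂. -/
theorem iso : Nonempty (↥(setup F).S.fix ≃* ↥(Data.G2.tbl.datum.group F)) :=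
  fix_iso (setup F) (G_eq F) (fun _ => rfl) Data.G2.valid emb tgt chk_fold

end CfsgLib.KnownB.GraphFix.D4
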